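import Mathlib

/-! Elementary abelian subgroups as vector spaces; functionals over `ZMod 2`. -/

set_option autoImplicit false

namespace Cfsg.Agent.Pyr

open Subgroup

universe u

theorem exists_lin {G : Type u} {H : Type*} [Group G] [Group H] (φ : H →* G) {V : Subgroup G}
    (hn : ∀ g : H, ∀ x ∈ V, φ g * x * (φ g)⁻¹ ∈ V) (r : ℕ)
    (hc : ∀ x ∈ V, ∀ y ∈ V, x * y = y * x) (hr : ∀ x ∈ V, x ^ r = 1) :
    ∃ (A : Type u) (_ : AddCommGroup A) (_ : Module (ZMod r) A) (ι : A → G)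
      (ρ : H →* (A ≃ₗ[ZMod r] A)), Function.Injective ι ∧ (∀ a b, ι (a + b) = ι a * ι b) ∧
      (∀ x, x ∈ V ↔ ∃ a, ι a = x) ∧ ∀ g a, ι (ρ g a) = φ g * ι a * (φ g)⁻¹ := by
  obtain ⟨A, k, ι, hi, ha, hV⟩ : ∃ (A : Type u) (_ : AddCommGroup A) (ι : A → G),
      Function.Injective ι ∧ (∀ a b, ι (a + b) = ι a * ι b) ∧ (∀ x, x ∈ V ↔ ∃ a, ι a = x) := by
    let i : CommGroup V := { (inferInstance : Group V) with
      mul_comm := fun a b => Subtype.ext (hc a a.2 b b.2) }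
    exact ⟨Additive V, inferInstance, fun a => (Additive.toMul a).1,
      fun a b e => Additive.toMul.injective (Subtype.ext e), fun a b => rfl,
      fun x => ⟨fun hx => ⟨Additive.ofMul ⟨x, hx⟩, rfl⟩, fun ⟨a, e⟩ => e ▸ (Additive.toMul a).2⟩⟩
  have h0 : ι 0 = 1 := by simpa using ha 0 0
  have hm : ∀ (n : ℕ) a, ι (n • a) = ι a ^ n := fun n a => by
    induction n with
    | zero => simpa using h0
    | succ n ih => rw [succ_nsmul, ha, ih, pow_succ]
  obtain ⟨j⟩ : Nonempty (Module (ZMod r) A) := ⟨AddCommGroup.zmodModule fun x =>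
    hi (by rw [hm, h0, hr _ ((hV _).2 ⟨x, rfl⟩)])⟩
  choose f hf using fun g a => (hV _).1 (hn g _ ((hV _).2 ⟨a, rfl⟩))
  let e : H → (A ≃ₗ[ZMod r] A) := fun g =>
    { (AddMonoidHom.mk' (f g) fun a b => hi (by simp [hf, ha, mul_assoc])).toZModLinearMap r with
      invFun := f g⁻¹
      left_inv := fun a => hi (by simp [hf, mul_assoc])
      right_inv := fun a => hi (by simp [hf, mul_assoc]) }
  let ρ : H →* (A ≃ₗ[ZMod r] A) := MonoidHom.mk' e fun g g' => LinearEquiv.ext fun a => hi (by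
    change ι (f (g * g') a) = ι (f g (f g' a))
    simp [hf, mul_assoc])
  exact ⟨A, k, j, ι, ρ, hi, ha, hV, fun g a => hf g a⟩

variable {A : Type*} [AddCommGroup A] [Module (ZMod 2) A]

theorem zmod_two (x : ZMod 2) : x = 0 ∨ x = 1 := by revert x; decide

theorem exists_fn {a b c : A} (h0 : c ≠ 0) (h1 : c ≠ a) (h2 : c ≠ b) (h3 : c ≠ a + b) :
    ∃ f : Module.Dual (ZMod 2) A, f a = 0 ∧ f b = 0 ∧ f c = 1 := by
  have hc : c ∉ Submodule.span (ZMod 2) {a, b} := fun h => by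
    obtain ⟨x, y, e⟩ := Submodule.mem_span_pair.1 h
    rcases zmod_two x with rfl | rfl <;> rcases zmod_two y with rfl | rfl <;> simp at e <;>
      simp_all
  obtain ⟨f, hf, hf'⟩ := Submodule.exists_dual_map_eq_bot_of_notMem hc inferInstance
  have : ∀ x ∈ ({a, b} : Set A), f x = 0 := fun x hx =>
    (Submodule.mem_bot _).1 (hf' ▸ Submodule.mem_map_of_mem (Submodule.subset_span hx))
  exact ⟨f, this a (by simp), this b (by simp), (zmod_two _).resolve_left hf⟩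

theorem exists_fn' {a c : A} (h0 : c ≠ 0) (h1 : c ≠ a) :
    ∃ f : Module.Dual (ZMod 2) A, f a = 0 ∧ f c = 1 := by
  obtain ⟨f, h2, -, h3⟩ := exists_fn (b := 0) h0 h1 h0 (by rwa [add_zero])
  exact ⟨f, h2, h3⟩

end Cfsg.Agent.Pyr
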