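import Mathlib
import Cfsg.Agent.Pyr.Lin

/-! A quadratic form on a `2`-group with a large singular subgroup has many zeros. -/

set_option autoImplicit false

namespace Cfsg.Agent.Pyr

open Subgroup
open scoped Pointwise

theorem exists_two_lift {G H : Type*} [Group G] [Group H] [Finite G] (f : G →* H) (g : G)
    (h : f g * f g = 1) : ∃ y : G, f y = f g ∧ ∃ k, y ^ 2 ^ k = 1 := by
  obtain ⟨k, m, ⟨r, hr⟩, e⟩ := Nat.exists_eq_two_pow_mul_odd (orderOf_pos g).ne'
  refine ⟨g ^ m, ?_, k, by rw [← pow_mul, mul_comm, ← e, pow_orderOf_eq_one]⟩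
  rw [map_pow, hr, pow_succ, pow_mul, sq, h, one_pow, one_mul]

variable {T : Type*} [Group T] [Finite T]

omit [Finite T] in
theorem card_dvd_ncard (U : Subgroup T) {Z : Set T} (h : ∀ z ∈ Z, ∀ u ∈ U, z * u ∈ Z) :
    Nat.card U ∣ Z.ncard := by
  have h1 : Z * (U : Set T) = Z := by
    refine Set.Subset.antisymm ?_ fun z hz => ⟨z, hz, 1, U.one_mem, mul_one z⟩
    rintro _ ⟨z, hz, u, hu, rfl⟩
    exact h z hz u hu
  have := U.card_mul_eq_card_subgroup_mul_card_quotient Z
  rw [h1] at this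
  exact ⟨_, this⟩

theorem quad_false (hT : IsPGroup 2 T) (qf : T → ZMod 2) (b : T → T → ZMod 2)
    (hq : ∀ x u, qf (x * u) = qf x + b x u + qf u) (hb : ∀ x y u, b (x * y) u = b x u + b y u)
    (U : Subgroup T) (hU : ∀ u ∈ U, qf u = 0) {N : ℕ} (h0 : 0 < N) (hN : N ≤ Nat.card U)
    (hc : {x | qf x = 1}.ncard = {x | qf x = 0}.ncard + N) : False := by
  have : Fact (Nat.Prime 2) := ⟨Nat.prime_two⟩
  have h1 : ∀ u, b 1 u = 0 := fun u => by simpa using hb 1 1 u
  let P : Subgroup T :=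
    { carrier := {x | ∀ u ∈ U, b x u = 0}
      one_mem' := fun u _ => h1 u
      mul_mem' := fun {x y} hx hy u hu => by rw [hb, hx u hu, hy u hu, add_zero]
      inv_mem' := fun {x} hx u hu => by simpa [h1, hx u hu] using (hb x x⁻¹ u).symm }
  have hUP : U ≤ P := fun x hx u hu => by
    simpa [hU _ hx, hU _ hu, hU _ (mul_mem hx hu)] using (hq x u).symm
  let w : T → T := fun x => Classical.epsilon fun u => u ∈ U ∧ b x u = 1
  have hw : ∀ x ∉ P, w x ∈ U ∧ b x (w x) = 1 := fun x hx => by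
    refine Classical.epsilon_spec (p := fun u => u ∈ U ∧ b x u = 1) ?_
    by_contra e
    exact hx fun u hu => (zmod_two _).resolve_right fun h => e ⟨u, hu, h⟩
  have hw2 : ∀ x, ∀ u ∈ U, w (x * u) = w x := fun x u hu => by
    refine congrArg Classical.epsilon (funext fun v => propext (and_congr_right fun hv => ?_))
    rw [hb, hUP hu v hv, add_zero]
  have key : ∀ i j : ZMod 2, i + 1 = j →
      ({x | qf x = i} \ P).ncard ≤ ({x | qf x = j} \ P).ncard := fun i j e => by
    refine Set.ncard_le_ncard_of_injOn (fun x => x * w x) (fun x hx => ⟨?_, fun h => hx.2 ?_⟩)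
      fun x hx y hy h => ?_
    · change qf _ = j
      rw [hq, hx.1, (hw x hx.2).2, hU _ (hw x hx.2).1, add_zero, e]
    · exact (mul_mem_cancel_right (hUP (hw x hx.2).1)).1 h
    · have h2 := congrArg w h
      simp only [hw2 _ _ (hw x hx.2).1, hw2 _ _ (hw y hy.2).1] at h2
      simp only [h2] at h
      exact mul_right_cancel h
  have h2 := le_antisymm (key 0 1 rfl) (key 1 0 rfl)
  have h3 := Set.ncard_inter_add_ncard_sdiff_eq_ncard {x | qf x = 0} P
  have h4 := Set.ncard_inter_add_ncard_sdiff_eq_ncard {x | qf x = 1} P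
  have h5 : ∀ i, Nat.card U ∣ ({x | qf x = i} ∩ P).ncard := fun i =>
    card_dvd_ncard U fun z hz u hu => ⟨by
      change qf _ = i
      rw [hq, hz.1, hz.2 u hu, hU u hu, add_zero, add_zero], mul_mem hz.2 (hUP hu)⟩
  obtain ⟨a, ha⟩ := h5 0
  obtain ⟨c, hc'⟩ := h5 1
  have h6 : Nat.card P = ({x | qf x = 0} ∩ P).ncard + ({x | qf x = 1} ∩ P).ncard := by
    rw [← Set.ncard_union_eq (Set.disjoint_left.2 fun x h h' =>
      zero_ne_one ((show qf x = 0 from h.1).symm.trans h'.1)), ← Set.union_inter_distrib_right]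
    exact congrArg Set.ncard (Set.inter_eq_right.2 fun x _ => zmod_two _).symm
  have h7 : Nat.card U * c = Nat.card U * a + N := by omega
  have h8 : c = a + 1 := by
    have h9 : a < c := Nat.lt_of_mul_lt_mul_left (a := Nat.card U) (by omega)
    have h10 : c ≤ a + 1 := Nat.le_of_mul_le_mul_left (c := Nat.card U) (by
      rw [h7, mul_add]; omega) Nat.card_pos
    omega
  obtain ⟨k, hk⟩ := (hT.to_subgroup P).exists_card_eq
  have h9 : 2 * a + 1 ∣ 2 ^ k := ⟨Nat.card U, by rw [← hk, h6, ha, hc', h8]; ring⟩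
  have h10 : a = 0 := by
    have := (Nat.Coprime.pow_right k (Nat.coprime_two_right.2 ⟨a, rfl⟩)).eq_one_of_dvd h9
    omega
  rw [h10, mul_zero, Set.ncard_eq_zero] at ha
  exact Set.eq_empty_iff_forall_notMem.1 ha 1 ⟨hU 1 U.one_mem, P.one_mem⟩

open Finset in
theorem card_fib {T A : Type*} [Finite T] [Finite A] [Zero A] (s : T → A) {q m : ℕ}
    (h0 : {x | s x = 0}.ncard = q) (hm : ∀ a ≠ 0, {x | s x = a}.ncard = m) (S : Set A) :
    (0 ∈ S → {x | s x ∈ S}.ncard + m = q + S.ncard * m) ∧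
      (0 ∉ S → {x | s x ∈ S}.ncard = S.ncard * m) := by
  classical
  have := Fintype.ofFinite T
  have h1 : ∀ S : Set A, 0 ∉ S → {x | s x ∈ S}.ncard = S.ncard * m := fun S h => by
    rw [Set.ncard_eq_toFinset_card S, ← sum_const_nat (f := fun a => #{x ∈ univ | s x = a}),
      sum_card_fiberwise_eq_card_filter univ _ s, ← Set.ncard_coe_finset]
    · congr 1; ext; simp
    · intro a ha
      rw [← hm a (by rintro rfl; exact h (by simpa using ha)), ← Set.ncard_coe_finset]
      congr 1; ext; simp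
  refine ⟨fun h => ?_, h1 S⟩
  have h2 : {x | s x ∈ S} = {x | s x = 0} ∪ {x | s x ∈ S \ {0}} := by
    ext x
    by_cases e : s x = 0 <;> simp [e, h]
  rw [h2, Set.ncard_union_eq (Set.disjoint_left.2 fun x h h' => h'.2 h), h0, h1 _ (by simp),
    ← Set.ncard_sdiff_singleton_add_one h]
  ring

end Cfsg.Agent.Pyr
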