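import Mathlib
import Cfsg.Agent.S3773
import Cfsg.Agent.S1137
import Cfsg.Agent.S1138
import Cfsg.Agent.Grp.CritExp

/-! A `2`-group with a prime number `p` of involutions, moved by an automorphism of `p`-power
order, is abelian or a Suzuki `2`-group. -/

set_option autoImplicit false

namespace Cfsg.Agent.Pyr

open Subgroup MulAction

variable {T : Type*} [Group T] [Finite T] {p k : ℕ}

theorem mem_zpowers_of_ne_one {H : Type*} [Group H] [Finite H] (hp : p.Prime) {ξ g : H}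
    (hξ : orderOf ξ = p ^ (k + 1)) (hg : g ∈ zpowers ξ) (h1 : g ≠ 1) : ξ ^ p ^ k ∈ zpowers g := by
  obtain ⟨j, rfl⟩ : ∃ j : ℕ, ξ ^ j = g := (mem_powers_iff_mem_zpowers.2 hg :)
  have hj : j ≠ 0 := by rintro rfl; exact h1 (pow_zero _)
  obtain ⟨a, u, hu, rfl⟩ := Nat.exists_eq_pow_mul_and_not_dvd hj p hp.ne_one
  have ha : a ≤ k := by
    by_contra h
    apply h1
    obtain ⟨b, rfl⟩ : ∃ b, a = k + 1 + b := ⟨a - (k + 1), by omega⟩
    rw [pow_add, mul_assoc, ← hξ, pow_mul, pow_orderOf_eq_one, one_pow]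
  have hc : u.Coprime (orderOf (ξ ^ p ^ a)) :=
    Nat.Coprime.coprime_dvd_right ((orderOf_pow_dvd _).trans hξ.dvd)
      (((Nat.Prime.coprime_iff_not_dvd hp).2 hu).symm.pow_right _)
  obtain ⟨m, hm⟩ := exists_pow_eq_self_of_coprime hc
  obtain ⟨b, rfl⟩ := Nat.exists_eq_add_of_le ha
  rw [pow_add, pow_mul, pow_mul]
  refine pow_mem ?_ _
  nth_rewrite 2 [← hm]
  exact pow_mem (mem_zpowers _) _

theorem two_pow_ne {d : ℕ} (hp : p.Prime) (hp2 : p ≠ 2) (h1 : 2 ^ d ≤ (p + 1) ^ 2) (hd : d ≠ 0)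
    (h : p ^ 2 ∣ 2 ^ d - 1) : False := by
  have h3 : 3 ≤ p := by have := hp.two_le; omega
  obtain ⟨c, hc⟩ := h
  have h2 : 2 ≤ 2 ^ d := Nat.le_self_pow hd 2
  have hc1 : c = 1 := by
    rcases c with _ | _ | c
    · omega
    · rfl
    · exfalso
      have : 2 ^ d = p ^ 2 * (c + 1 + 1) + 1 := by omega
      nlinarith [Nat.zero_le (p ^ 2 * c)]
  subst hc1
  obtain ⟨r, hr⟩ := hp.odd_of_ne_two hp2
  have h4 : 2 ^ d = 4 * (r * r + r) + 2 := by
    have : 2 ^ d = p ^ 2 + 1 := by omega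
    rw [this, hr]; ring
  rcases d with _ | _ | d
  · exact hd rfl
  · have : 1 ≤ r := by omega
    simp only [zero_add, pow_one] at h4
    omega
  · rw [pow_succ, pow_succ] at h4; omega

/-- the power `ξ ^ p` fixes the involutions, hence everything -/
theorem pow_eq_one_of_fix (hT : IsPGroup 2 T) (hp : p.Prime) (hp2 : p ≠ 2)
    (hc : ∀ x y : T, x ^ 2 = 1 → y ^ 2 = 1 → (x * y) ^ 2 = 1)
    (hcard : Nat.card {x : T // x ^ 2 = 1} = p + 1) {ξ : MulAut T} (hξ : orderOf ξ = p ^ k)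
    (hfix : ∀ x : T, x ^ 2 = 1 → (ξ ^ p) x = x) : ξ ^ p = 1 := by
  have : Fact (Nat.Prime 2) := ⟨Nat.prime_two⟩
  have : Finite (MulAut T) := Finite.of_injective _ DFunLike.coe_injective
  by_contra hne
  obtain ⟨j, rfl⟩ : ∃ j, k = j + 1 + 1 := by
    rcases k with _ | _ | j
    · exact absurd (orderOf_dvd_iff_pow_eq_one.1 (by rw [hξ]; simp)) hne
    · exact absurd (orderOf_dvd_iff_pow_eq_one.1 (by rw [hξ]; simp)) hne
    · exact ⟨j, rfl⟩
  set h := ξ ^ p ^ (j + 1) with hh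
  have hho : orderOf h = p := by
    rw [hh, orderOf_pow' _ (pow_pos hp.pos _).ne', hξ, Nat.gcd_eq_right (pow_dvd_pow _ (by omega)),
      pow_succ, Nat.mul_div_cancel_left _ (pow_pos hp.pos _)]
  have hhf : ∀ x : T, x ^ 2 = 1 → h x = x := fun x hx => by
    have : h = (ξ ^ p) ^ p ^ j := by rw [hh, ← pow_mul, ← pow_succ']
    rw [this]
    exact (pow_mem (show ξ ^ p ∈ stabilizer (MulAut T) x from hfix x hx) _ :)
  obtain ⟨D, hD, h4, hcl, hf⟩ := Grp.CritExp.exists_char hT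
  have hDa : ∀ (α : MulAut T), ∀ d ∈ D, α d ∈ D := fun α d hd =>
    (characteristic_iff_map_le.1 hD α) (mem_map_of_mem _ hd)
  let C : Subgroup T := D ⊓ h.toMonoidHom.eqLocus (MonoidHom.id T)
  have hC : ∀ x, x ∈ C ↔ x ∈ D ∧ h x = x := fun x => Iff.rfl
  have hCD : C ≠ D := fun e => by
    have := hf h (by rw [hho]; exact (Nat.coprime_primes hp Nat.prime_two).2 hp2)
      fun d hd => ((hC d).1 (e ▸ hd)).2
    rw [this, orderOf_one] at hho
    exact hp.ne_one hho.symm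
  -- the size of `D`
  set q := Nat.card {x : D // x ^ 2 = 1} with hq
  have hb : Nat.card D ≤ q ^ 3 := by
    refine (S3773.result (hT.to_subgroup D) ?_ (fun x => Subtype.ext (h4 x x.2))
      fun x y hx hy => Subtype.ext (hc x y (congrArg Subtype.val hx) (congrArg Subtype.val hy))).1
    rw [eq_bot_iff]
    refine commutator_le.2 fun x hx y _ => ?_
    have h1 : (x : T) ∈ centralizer (D : Set T) := by
      have h2 : (⁅(⊤ : Subgroup D), (⊤ : Subgroup D)⁆).map D.subtype ≤ centralizer (D : Set T) := by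
        rw [map_commutator, ← MonoidHom.range_eq_map, range_subtype]
        exact ((commutator_mono le_rfl le_top).trans hcl).trans inf_le_right
      exact h2 (mem_map_of_mem _ hx)
    rw [mem_bot, commutatorElement_eq_one_iff_mul_comm]
    exact Subtype.ext (h1 y y.2).symm
  have hq1 : q ≤ p + 1 := by
    rw [← hcard]
    exact Nat.card_le_card_of_injective
      (fun x => ⟨x.1.1, congrArg Subtype.val x.2⟩) fun x y e =>
        Subtype.ext (Subtype.ext (Subtype.mk.inj e))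
  have hq2 : q ≤ Nat.card C :=
    Nat.card_le_card_of_injective
      (fun x => ⟨x.1.1, (hC _).2 ⟨x.1.2, hhf _ (congrArg Subtype.val x.2)⟩⟩) fun x y e =>
        Subtype.ext (Subtype.ext (Subtype.mk.inj e))
  -- the free action on `D \ C`
  let S : SubMulAction (zpowers ξ) T :=
    { carrier := (D : Set T) \ C
      smul_mem' := fun g x hx => by
        refine ⟨hDa g x hx.1, fun h1 => hx.2 ((hC _).2 ⟨hx.1, ?_⟩)⟩
        have h2 : h * g = g * h := by
          obtain ⟨n, hn⟩ := g.2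
          rw [← hn, hh]
          exact (Commute.pow_left (Commute.zpow_right (Commute.refl ξ) n) _).eq
        have h3 : (h * g) x = (g : MulAut T) x := ((hC _).1 h1).2
        rw [h2] at h3
        exact (g : MulAut T).injective h3 }
  have hfree : ∀ x : S, stabilizer (zpowers ξ) x = ⊥ := fun x => by
    rw [eq_bot_iff]
    intro g hg
    by_contra h1
    have h2 := mem_zpowers_of_ne_one hp hξ g.2 fun e => h1 (mem_bot.2 (Subtype.ext e))
    have h3 : zpowers (g : MulAut T) ≤ stabilizer (MulAut T) (x : T) :=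
      zpowers_le.2 (congrArg Subtype.val (mem_stabilizer_iff.1 hg))
    exact x.2.2 ((hC _).2 ⟨x.2.1, h3 h2⟩)
  have hdv : p ^ 2 ∣ Nat.card S := by
    rw [Nat.card_congr (selfEquivOrbitsQuotientProd hfree), Nat.card_prod, Nat.card_zpowers, hξ]
    exact Dvd.dvd.mul_left (pow_dvd_pow _ (by omega)) _
  have hS : Nat.card S = Nat.card D - Nat.card C := by
    change Nat.card ((D : Set T) \ C : Set T) = _
    rw [Nat.card_coe_set_eq, Set.ncard_sdiff (fun x hx => hx.1)]
    rfl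
  obtain ⟨a, ha⟩ := (hT.to_subgroup D).exists_card_eq
  obtain ⟨b, hb'⟩ := (hT.to_subgroup C).exists_card_eq
  have hlt : Nat.card C < Nat.card D := by
    have := Set.ncard_lt_ncard (s := (C : Set T)) (t := D)
      (ssubset_of_ne_of_subset (fun e => hCD (SetLike.coe_injective e)) fun x hx => hx.1)
    exact this
  rw [ha, hb', Nat.pow_lt_pow_iff_right one_lt_two] at hlt
  obtain ⟨d, rfl⟩ := Nat.exists_eq_add_of_lt hlt
  rw [hS, ha, hb', add_assoc, pow_add, ← Nat.mul_sub_one] at hdv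
  refine two_pow_ne (d := d + 1) hp hp2 ?_ (by omega) (Nat.Coprime.dvd_of_dvd_mul_left
    (((Nat.coprime_primes hp Nat.prime_two).2 hp2).pow _ _) hdv)
  rw [ha, add_assoc, pow_add, ← hb'] at hb
  have h0 : 0 < Nat.card C := Nat.card_pos
  have : Nat.card C * 2 ^ (d + 1) ≤ Nat.card C * (p + 1) ^ 2 :=
    hb.trans (by rw [pow_succ']; exact Nat.mul_le_mul hq2 (Nat.pow_le_pow_left hq1 2))
  exact Nat.le_of_mul_le_mul_left this h0

theorem ncard_inv (hcard : Nat.card {x : T // x ^ 2 = 1} = p + 1) :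
    {x : T | x ≠ 1 ∧ x * x = 1}.ncard = p := by
  have h1 : {x : T | x ^ 2 = 1} = insert 1 {x : T | x ≠ 1 ∧ x * x = 1} := by
    ext x
    by_cases h : x = 1 <;> simp [h, sq]
  have h2 : {x : T | x ^ 2 = 1}.ncard = p + 1 := hcard
  rw [h1, Set.ncard_insert_of_notMem (by simp)] at h2
  omega

theorem isSuzuki (hT : IsPGroup 2 T) (hp : p.Prime) (hp2 : p ≠ 2)
    (hc : ∀ x y : T, x ^ 2 = 1 → y ^ 2 = 1 → (x * y) ^ 2 = 1)
    (hcard : Nat.card {x : T // x ^ 2 = 1} = p + 1) {ξ : MulAut T} (hξ : orderOf ξ = p ^ k)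
    {v : T} (hv : v * v = 1) (hmv : ξ v ≠ v) (hna : ∃ x y : T, x * y ≠ y * x) :
    IsSuzukiTwoGroup T := by
  have : Finite (MulAut T) := Finite.of_injective _ DFunLike.coe_injective
  have hI := ncard_inv hcard
  have hv1 : v ≠ 1 := by rintro rfl; exact hmv (map_one _)
  have hsub : ∀ x : T, x ≠ 1 → x * x = 1 →
      orbit (zpowers ξ) x ⊆ {x : T | x ≠ 1 ∧ x * x = 1} := by
    rintro x h1 h2 _ ⟨g, rfl⟩
    exact ⟨(map_ne_one_iff _ (g : MulAut T).injective).2 h1, by
      change (g : MulAut T) x * (g : MulAut T) x = 1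
      rw [← map_mul, h2, map_one]⟩
  have horb : orbit (zpowers ξ) v = {x : T | x ≠ 1 ∧ x * x = 1} := by
    refine Set.eq_of_subset_of_ncard_le (hsub v hv1 hv) ?_
    rw [hI, ← index_stabilizer]
    obtain ⟨i, -, hi⟩ := (Nat.dvd_prime_pow hp).1
      ((index_dvd_card (stabilizer (zpowers ξ) v)).trans (by rw [Nat.card_zpowers, hξ]))
    rw [hi]
    refine Nat.le_self_pow ?_ p
    rintro rfl
    have h1 : (⟨ξ, mem_zpowers ξ⟩ : zpowers ξ) ∈ stabilizer (zpowers ξ) v := by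
      rw [index_eq_one.1 hi]; trivial
    exact hmv h1
  have horb' : ∀ x : T, x ≠ 1 → x * x = 1 →
      orbit (zpowers ξ) x = {x : T | x ≠ 1 ∧ x * x = 1} := fun x h1 h2 => by
    rw [← horb]
    exact orbit_eq_iff.2 (horb ▸ ⟨h1, h2⟩)
  have hidx : ∀ x : T, x ≠ 1 → x * x = 1 → (stabilizer (zpowers ξ) x).index = p := fun x h1 h2 => by
    rw [index_stabilizer, horb' x h1 h2, hI]
  have h1 : ξ ^ p = 1 := by
    refine pow_eq_one_of_fix hT hp hp2 hc hcard hξ fun x hx => ?_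
    by_cases hx1 : x = 1
    · rw [hx1, map_one]
    have : (stabilizer (zpowers ξ) x).Normal := ⟨fun a ha b => by
      rwa [mul_comm' b a, mul_inv_cancel_right]⟩
    have h2 := (stabilizer (zpowers ξ) x).pow_index_mem ⟨ξ, mem_zpowers ξ⟩
    rw [hidx x hx1 (by rwa [← sq])] at h2
    exact h2
  have hbot : ∀ x : T, x ≠ 1 → x * x = 1 → stabilizer (zpowers ξ) x = ⊥ := fun x h2 h3 => by
    have h4 := (stabilizer (zpowers ξ) x).card_mul_index
    rw [hidx x h2 h3, Nat.card_zpowers] at h4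
    have h5 := Nat.le_of_dvd hp.pos (orderOf_dvd_of_pow_eq_one h1)
    have h6 : 0 < Nat.card (stabilizer (zpowers ξ) x) := Nat.card_pos
    refine card_eq_one.1 ?_
    have := hp.pos
    nlinarith
  refine ⟨‹_›, hT, hna, ⟨ξ v, v, hmv, (map_ne_one_iff _ ξ.injective).2 hv1, by
    rw [← map_mul, hv, map_one], hv1, hv⟩, zpowers ξ, inferInstance, fun x y h2 h3 h4 h5 => ?_⟩
  obtain ⟨g, hg⟩ : y ∈ orbit (zpowers ξ) x := by rw [horb' x h2 h3]; exact ⟨h4, h5⟩
  refine ⟨g, hg, fun g' hg' => ?_⟩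
  have h6 : g⁻¹ * g' ∈ stabilizer (zpowers ξ) x := by
    rw [mem_stabilizer_iff, mul_smul, inv_smul_eq_iff]
    exact hg'.trans hg.symm
  rw [hbot x h2 h3, mem_bot, inv_mul_eq_one] at h6
  exact h6.symm

end Cfsg.Agent.Pyr
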