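import Mathlib
import Cfsg.Agent.Pyr.Lin

/-! An extension of an abelian `2`-group `B` by `GL(Ω₁(B))` has involutions outside `B`. -/

set_option autoImplicit false

namespace Cfsg.Agent.Pyr

open Module

theorem add_self' {A : Type*} [AddCommGroup A] [Module (ZMod 2) A] (a : A) : a + a = 0 := by
  rw [← two_nsmul]; exact ZModModule.char_nsmul_eq_zero 2 a

/-- the data -/
structure AbD (G A B R : Type*) [Group G] [AddCommGroup A] [Module (ZMod 2) A] [AddCommGroup B]
    [Ring R] [Module R B] where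
  κ : B → G
  σ : G →* (B ≃ₗ[R] B)
  j : A →+ B
  ρ : G →* (A ≃ₗ[ZMod 2] A)
  κ_inj : Function.Injective κ
  κ_add : ∀ a b, κ (a + b) = κ a * κ b
  conj : ∀ g b, κ (σ g b) = g * κ b * g⁻¹
  j_inj : Function.Injective j
  j_range : ∀ b, 2 • b = 0 → ∃ a, j a = b
  σ_j : ∀ g a, σ g (j a) = j (ρ g a)
  surj : Function.Surjective ρ
  ker : ∀ g, ρ g = 1 → ∃ b, κ b = g
  inv : ∀ g, g * g = 1 → ρ g = 1
  two : ∃ e, ∀ b : B, 2 ^ e • b = 0

namespace AbD

variable {G A B R : Type*} [Group G] [AddCommGroup A] [Module (ZMod 2) A] [AddCommGroup B]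
  [Ring R] [Module R B] (D : AbD G A B R)

theorem σ_κ (b : B) : D.σ (D.κ b) = 1 := LinearEquiv.ext fun a => D.κ_inj (by
  rw [D.conj, ← D.κ_add, add_comm, D.κ_add, mul_inv_cancel_right]; rfl)

theorem ρ_κ (b : B) : D.ρ (D.κ b) = 1 := LinearEquiv.ext fun a => D.j_inj (by
  rw [← D.σ_j, D.σ_κ]; rfl)

theorem exists_eq {g g' : G} (h : D.ρ g = D.ρ g') : ∃ b, g' = D.κ b * g := by
  obtain ⟨b, hb⟩ := D.ker (g' * g⁻¹) (by rw [map_mul, map_inv, h, mul_inv_cancel])
  exact ⟨b, by rw [hb, inv_mul_cancel_right]⟩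

theorem σ_congr {g g' : G} (h : D.ρ g = D.ρ g') : D.σ g = D.σ g' := by
  obtain ⟨b, rfl⟩ := D.exists_eq h
  rw [map_mul, D.σ_κ, one_mul]

theorem two_j (a : A) : 2 • D.j a = 0 := by rw [two_nsmul, ← map_add, add_self', map_zero]

/-- `g` acts as the transvection `x ↦ x + f x • u` -/
def IsT (g : G) (f : Dual (ZMod 2) A) (u : A) : Prop := ∀ x, D.ρ g x = x + f x • u

theorem exists_isT {f : Dual (ZMod 2) A} {u : A} (h : f u = 0) : ∃ g, D.IsT g f u := by
  obtain ⟨g, hg⟩ := D.surj (LinearEquiv.transvection h)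
  exact ⟨g, fun x => by rw [hg]; rfl⟩

theorem trans {a b : A} (ha : a ≠ 0) (hb : b ≠ 0) : ∃ g, D.ρ g a = b := by
  obtain ⟨f, h1, h2⟩ := exists_fn' (a := a + b) ha (by simpa using hb)
  obtain ⟨g, hg⟩ := D.exists_isT h1
  exact ⟨g, by rw [hg, h2, one_smul, ← add_assoc, add_self', zero_add]⟩

theorem homocyclic [Finite B] {c : A} (hc : c ≠ 0) : ∃ e, (∀ b : B, 2 ^ (e + 1) • b = 0) ∧
    (∀ a, ∃ b, 2 ^ e • b = D.j a) ∧ ∀ b : B, 2 ^ e • b = 0 → ∃ b', b = 2 • b' := by
  classical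
  have h0 : Nat.find D.two ≠ 0 := fun e => by
    have := Nat.find_spec D.two (D.j c)
    rw [e, pow_zero, one_smul] at this
    exact hc (D.j_inj (this.trans (map_zero _).symm))
  obtain ⟨e, he⟩ := Nat.exists_eq_succ_of_ne_zero h0
  have h1 : ∀ b : B, 2 ^ (e + 1) • b = 0 := by
    have := Nat.find_spec D.two
    rwa [he] at this
  have h2 := Nat.find_min D.two (m := e) (by omega)
  push Not at h2
  obtain ⟨b0, hb0⟩ := h2
  have h3 : ∀ b : B, ∃ a, D.j a = 2 ^ e • b := fun b =>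
    D.j_range _ (by rw [← mul_smul, ← pow_succ', h1])
  have h4 : ∀ a, ∃ b, 2 ^ e • b = D.j a := fun a => by
    by_cases ha : a = 0
    · exact ⟨0, by simp [ha]⟩
    obtain ⟨a0, ha0⟩ := h3 b0
    obtain ⟨g, rfl⟩ := D.trans (a := a0) (by rintro rfl; exact hb0 (by simpa using ha0.symm)) ha
    exact ⟨D.σ g b0, by rw [← map_nsmul, ← ha0, D.σ_j]⟩
  refine ⟨e, h1, h4, ?_⟩
  have h5 : (nsmulAddMonoidHom (2 ^ e) : B →+ B).range = (nsmulAddMonoidHom 2 : B →+ B).ker := by
    ext b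
    refine ⟨?_, fun hb => ?_⟩
    · rintro ⟨b, rfl⟩
      change 2 • 2 ^ e • b = 0
      rw [← mul_smul, ← pow_succ', h1]
    · obtain ⟨a, rfl⟩ := D.j_range b hb
      exact h4 a
  have h6 : (nsmulAddMonoidHom 2 : B →+ B).range ≤ (nsmulAddMonoidHom (2 ^ e) : B →+ B).ker := by
    rintro _ ⟨b, rfl⟩
    change 2 ^ e • 2 • b = 0
    rw [← mul_smul, ← pow_succ, h1]
  have h7 := (nsmulAddMonoidHom 2 : B →+ B).ker.card_mul_index
  have h8 := (nsmulAddMonoidHom (2 ^ e) : B →+ B).ker.card_mul_index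
  rw [AddSubgroup.index_ker] at h7 h8
  rw [h5, mul_comm, ← h7] at h8
  have h9 := AddSubgroup.eq_of_le_of_card_ge h6 (Nat.eq_of_mul_eq_mul_left Nat.card_pos h8).le
  intro b hb
  obtain ⟨b', h⟩ : b ∈ (nsmulAddMonoidHom 2 : B →+ B).range := h9 ▸ hb
  exact ⟨b', h.symm⟩

/-- the norm of the four-group generated by `y`, `z` -/
def nm (y z : G) : B →+ B := AddMonoidHom.mk' (fun x => x + D.σ z x + D.σ y (x + D.σ z x))
  fun a b => by simp only [map_add]; abel

theorem nm_apply (y z : G) (x : B) : D.nm y z x = x + D.σ z x + D.σ y (x + D.σ z x) := rfl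

variable {D} {y z : G} {l m : Dual (ZMod 2) A} {c : A}

theorem IsT.sq (hy : D.IsT y l c) (hl : l c = 0) : D.ρ (y * y) = 1 :=
  LinearEquiv.ext fun x => by
    rw [map_mul, LinearEquiv.mul_apply, hy, hy, map_add, map_smul, hl, smul_zero, add_zero,
      add_assoc, add_self', add_zero]; rfl

theorem IsT.invol (hy : D.IsT y l c) (hl : l c = 0) (x : B) : D.σ y (D.σ y x) = x := by
  rw [← LinearEquiv.mul_apply, ← map_mul, D.σ_congr ((hy.sq hl).trans (map_one _).symm), map_one]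
  rfl

theorem IsT.comm' {u : A} (hy : D.IsT y l c) (hz : D.IsT z m u) (h1 : l u = 0) (h2 : m c = 0) :
    D.ρ (y * z) = D.ρ (z * y) := LinearEquiv.ext fun x => by
  simp only [map_mul, LinearEquiv.mul_apply, hy _, hz _, map_add, map_smul, h1, h2, smul_zero,
    add_zero]
  abel

theorem IsT.comm {u : A} (hy : D.IsT y l c) (hz : D.IsT z m u) (h1 : l u = 0) (h2 : m c = 0)
    (x : B) : D.σ y (D.σ z x) = D.σ z (D.σ y x) := by
  rw [← LinearEquiv.mul_apply, ← map_mul, D.σ_congr (hy.comm' hz h1 h2), map_mul]; rfl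

theorem IsT.mul (hy : D.IsT y l c) (hz : D.IsT z m c) (hl : l c = 0) :
    D.IsT (y * z) (l + m) c := fun x => by
  simp only [map_mul, LinearEquiv.mul_apply, hy _, hz _, map_add, map_smul, hl, smul_zero,
    add_zero, LinearMap.add_apply, add_smul]
  abel

theorem IsT.swap {g : G} {u : A} (hy : D.IsT y l c) (hz : D.IsT z m c) (hg : D.IsT g l u)
    (hl : l c = 0) (h1 : l u = 0) (h2 : m u = 1) : D.ρ (z * g) = D.ρ (g * (y * z)) :=
  LinearEquiv.ext fun x => by
    simp only [map_mul, LinearEquiv.mul_apply, hy _, hz _, hg _, map_add, map_smul, hl, h1, h2,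
      smul_zero, add_zero, add_smul, smul_eq_mul, mul_one, mul_zero]
    abel

theorem nm_symm (hy : D.IsT y l c) (hz : D.IsT z m c) (hl : l c = 0) (hm : m c = 0) (x : B) :
    D.nm y z x = D.nm z y x := by
  simp only [nm_apply, map_add, hy.comm hz hl hm]; abel

theorem IsT.fix (hy : D.IsT y l c) (hc : c ≠ 0) {a : A} (h : D.σ y (D.j a) = D.j a) : l a = 0 := by
  rw [D.σ_j, D.j_inj.eq_iff, hy, add_eq_left] at h
  exact (smul_eq_zero.1 h).resolve_right hc

theorem nm_step {e i : ℕ} (h2 : ∀ a, ∃ b, 2 ^ e • b = D.j a)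
    (h3 : ∀ b : B, 2 ^ e • b = 0 → ∃ b', b = 2 • b') (hy : D.IsT y l c) (hz : D.IsT z m c)
    (hc : c ≠ 0) (hl : l c = 0) (hm : m c = 0) {w : A} (hw : l w = 1)
    (hi : ∀ x, 2 ^ (i + 1) • D.nm y z x = 0) {u : A} (hu : l u = 0) {x : B}
    (hx : 2 ^ e • x = D.j u) : 2 ^ i • D.nm y z x = 0 := by
  obtain ⟨g, hg⟩ := D.exists_isT hu
  obtain ⟨t, ht⟩ := h2 w
  have c1 := hy.comm hg hu hl
  have e1 : D.nm y z (D.σ g t) = D.σ g (D.nm y z t) := by
    rcases zmod_two (m u) with h | h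
    · simp only [nm_apply, map_add, c1, hz.comm hg h hl]
    · have c2 : ∀ x, D.σ z (D.σ g x) = D.σ g (D.σ y (D.σ z x)) := fun x => by
        rw [← LinearEquiv.mul_apply, ← map_mul, D.σ_congr (hy.swap hz hg hl hu h), map_mul,
          map_mul]; rfl
      simp only [nm_apply, map_add, c1, c2, hy.invol hl]
      abel
  obtain ⟨a, ha⟩ := D.j_range (2 ^ i • D.nm y z t) (by rw [← mul_smul, ← pow_succ', hi])
  have e2 : l a = 0 := hy.fix hc (by
    rw [ha, map_nsmul, nm_apply, map_add, hy.invol hl, add_comm])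
  have e3 : 2 ^ i • D.nm y z (D.σ g t) = 2 ^ i • D.nm y z t := by
    rw [e1, ← map_nsmul, ← ha, D.σ_j, hg, e2, zero_smul, add_zero]
  obtain ⟨b, hb⟩ := h3 (x - (D.σ g t - t)) (by
    rw [smul_sub, smul_sub, ← map_nsmul, ht, hx, D.σ_j, hg, hw, one_smul, map_add]; abel)
  rw [sub_eq_iff_eq_add] at hb
  rw [hb, map_add, map_sub, smul_add, smul_sub, e3, sub_self, add_zero, map_nsmul, ← mul_smul,
    ← pow_succ, hi]

theorem nm_eq_zero [Finite B] (hy : D.IsT y l c) (hz : D.IsT z m c) (hc : c ≠ 0) (hl : l c = 0)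
    (hm : m c = 0) {u w : A} (h1 : l u = 1) (h2 : m u = 0) (h4 : m w = 1) (x : B) :
    D.nm y z x = 0 := by
  obtain ⟨e, he1, he2, he3⟩ := D.homocyclic hc
  have key : ∀ i, (∀ x, 2 ^ (i + 1) • D.nm y z x = 0) → ∀ x, 2 ^ i • D.nm y z x = 0 := by
    intro i hi x
    obtain ⟨a, ha⟩ := D.j_range (2 ^ e • x) (by rw [← mul_smul, ← pow_succ', he1])
    rcases zmod_two (l a) with h | h
    · exact nm_step he2 he3 hy hz hc hl hm h1 hi h ha.symm
    obtain ⟨t, ht⟩ := he2 u
    have e1 := nm_step he2 he3 hz hy hc hm hl h4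
      (fun x => by rw [← nm_symm hy hz hl hm, hi]) h2 ht
    rw [← nm_symm hy hz hl hm] at e1
    have e2 := nm_step (u := a - u) (x := x - t) he2 he3 hy hz hc hl hm h1 hi
      (by rw [map_sub, h, h1, sub_self]) (by rw [smul_sub, map_sub, ha, ht])
    rwa [map_sub, smul_sub, e1, sub_zero] at e2
  have : ∀ k i, i + k = e + 1 → ∀ x, 2 ^ i • D.nm y z x = 0 := by
    intro k
    induction k with
    | zero => rintro i rfl x; exact he1 _
    | succ k ih => exact fun i hi => key i (ih _ (by omega))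
  simpa using this (e + 1) 0 (by omega) x

variable (D) in
open Classical in
/-- the square of `y` in `B` -/
noncomputable def sq (y : G) : B := if h : ∃ b, D.κ b = y * y then h.choose else 0

theorem κ_sq (h : D.ρ (y * y) = 1) : D.κ (D.sq y) = y * y := by
  rw [sq, dif_pos (D.ker _ h)]
  exact (D.ker _ h).choose_spec

theorem σ_sq (h : D.ρ (y * y) = 1) : D.σ y (D.sq y) = D.sq y :=
  D.κ_inj (by rw [D.conj, κ_sq h]; group)

theorem sq_conj (h : D.ρ (y * y) = 1) (g : G) : D.sq (g * y * g⁻¹) = D.σ g (D.sq y) :=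
  D.κ_inj (by
    rw [κ_sq (by rw [conj_mul, map_mul, map_mul, h]; simp), D.conj, κ_sq h, conj_mul])

theorem sq_mul (h : D.ρ (y * y) = 1) (b : B) : D.sq (D.κ b * y) = b + D.σ y b + D.sq y :=
  D.κ_inj (by
    rw [κ_sq (by rw [map_mul] at h; simp [D.ρ_κ, h]), D.κ_add, D.κ_add, D.conj, κ_sq h]; group)

variable (D) in
/-- the invariant of a pair of transvections -/
noncomputable def eps (y z : G) : B := D.sq y + D.σ z (D.sq y)

theorem eps_conj (h : D.ρ (y * y) = 1) (h0 : ∀ x, D.nm z y x = 0) {g y' z' : G}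
    (h1 : D.ρ (y * g) = D.ρ (g * y')) (h2 : D.ρ (z * g) = D.ρ (g * z')) :
    D.eps y z = D.σ g (D.eps y' z') := by
  have e1 : D.ρ y = D.ρ (g * y' * g⁻¹) := by rw [map_mul _ (g * y'), ← h1]; simp
  have e2 : D.ρ z = D.ρ (g * z' * g⁻¹) := by rw [map_mul _ (g * z'), ← h2]; simp
  have h' : D.ρ (y' * y') = 1 := by
    rw [map_mul, e1, ← map_mul, conj_mul, map_mul, map_mul, map_inv, mul_inv_eq_one,
      mul_eq_left] at h
    exact h
  obtain ⟨b, hb⟩ := D.exists_eq e1
  have e3 : D.σ g (D.σ z' (D.sq y')) = D.σ z (D.σ g (D.sq y')) := by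
    rw [D.σ_congr e2]; simp
  have e4 := h0 b
  rw [eps, eps, map_add, e3, ← sq_conj h', hb, sq_mul h, map_add, ← add_zero (D.sq y + _), ← e4,
    nm_apply]
  abel

variable (D) in
include D in
theorem false [Finite B] {c w : A} (hc : c ≠ 0) (hw0 : w ≠ 0) (hwc : w ≠ c) : False := by
  obtain ⟨l, hl, hw⟩ := exists_fn' hw0 hwc
  obtain ⟨y, hy⟩ := D.exists_isT hl
  have hyy := hy.sq hl
  have hcj : D.j c ≠ 0 := fun e => hc (D.j_inj (e.trans (map_zero _).symm))
  obtain ⟨e, he1, he2, -⟩ := D.homocyclic hc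
  -- a second transvection with nonzero invariant
  obtain ⟨m, v, z, hm, hlv, hmv, hz, hne⟩ : ∃ (m : Dual (ZMod 2) A) (v : A) (z : G), m c = 0 ∧
      l v = 0 ∧ m v = 1 ∧ D.IsT z m c ∧ D.eps y z ≠ 0 := by
    by_contra hn
    push Not at hn
    let K : AddSubgroup B :=
      { carrier := {x | D.σ y x = x ∧ ∀ (m : Dual (ZMod 2) A) (v : A) (z : G), m c = 0 →
          l v = 0 → m v = 1 → D.IsT z m c → x + D.σ z x = 0}
        zero_mem' := by simp
        add_mem' := fun {a b} ha hb => ⟨by rw [map_add, ha.1, hb.1], fun m v z h1 h2 h3 h4 => by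
          rw [map_add, add_add_add_comm, ha.2 m v z h1 h2 h3 h4, hb.2 m v z h1 h2 h3 h4, add_zero]⟩
        neg_mem' := fun {a} ha => ⟨by rw [map_neg, ha.1], fun m v z h1 h2 h3 h4 => by
          rw [map_neg, ← neg_add, ha.2 m v z h1 h2 h3 h4, neg_zero]⟩ }
    obtain ⟨t, ht⟩ := he2 w
    have hf : t + D.σ y t ∈ K := by
      refine ⟨by rw [map_add, hy.invol hl, add_comm], fun m v z h1 h2 h3 h4 => ?_⟩
      obtain ⟨u, h5, h6⟩ : ∃ u, m u = 0 ∧ l u = 1 := by
        rcases zmod_two (m w) with h | h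
        · exact ⟨w, h, hw⟩
        · exact ⟨w + v, by rw [map_add, h, h3]; rfl, by rw [map_add, hw, h2, add_zero]⟩
      exact nm_eq_zero h4 hy hc h1 hl h3 h2 h6 t
    have hf2 : 2 ^ e • (t + D.σ y t) = D.j c := by
      rw [smul_add, ← map_nsmul, ht, D.σ_j, hy, hw, one_smul, map_add, ← add_assoc, ← two_nsmul,
        D.two_j, zero_add]
    have hK : ∀ x ∈ K, 2 • x = 0 → x = 0 ∨ x = D.j c := fun x hx h2 => by
      obtain ⟨a, rfl⟩ := D.j_range x h2
      by_contra h3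
      push Not at h3
      obtain ⟨m, h4, h5⟩ := exists_fn' (a := c) (c := a) (by rintro rfl; exact h3.1 (map_zero _))
        (by rintro rfl; exact h3.2 rfl)
      obtain ⟨z, hz⟩ := D.exists_isT h4
      have := hx.2 m a z h4 (hy.fix hc hx.1) h5 hz
      rw [D.σ_j, hz, h5, one_smul, map_add, ← add_assoc, ← two_nsmul, D.two_j, zero_add] at this
      exact hcj this
    have hcyc : ∀ i ≤ e + 1, ∀ x ∈ K, 2 ^ i • x = 0 →
        x ∈ AddSubgroup.zmultiples (t + D.σ y t) := by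
      intro i
      induction i with
      | zero => intro _ x _ h; rw [pow_zero, one_smul] at h; rw [h]; exact zero_mem _
      | succ i ih =>
        intro hi x hx h
        rcases hK _ (K.nsmul_mem hx (2 ^ i)) (by rw [← mul_smul, ← pow_succ', h]) with h1 | h1
        · exact ih (by omega) x hx h1
        obtain ⟨k, rfl⟩ : ∃ k, e = i + k := ⟨e - i, by omega⟩
        have := ih (by omega) (x - 2 ^ k • (t + D.σ y t)) (sub_mem hx (K.nsmul_mem hf _))
          (by rw [smul_sub, h1, ← mul_smul, ← pow_add, hf2, sub_self])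
        rw [← sub_add_cancel x (2 ^ k • (t + D.σ y t))]
        exact add_mem this (AddSubgroup.nsmul_mem _ (AddSubgroup.mem_zmultiples _) _)
    obtain ⟨n, hn'⟩ := hcyc _ le_rfl (D.sq y) ⟨σ_sq hyy, hn⟩ (he1 _)
    have h1 : D.sq (D.κ (-(n • t)) * y) = 0 := by
      rw [sq_mul hyy, ← hn', map_neg, map_zsmul]
      simp only [smul_add]; abel
    have h2 : D.ρ (D.κ (-(n • t)) * y) = D.ρ y := by rw [map_mul, D.ρ_κ, one_mul]
    have h3 := κ_sq (y := D.κ (-(n • t)) * y) (by rw [map_mul, h2, ← map_mul, hyy])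
    have h4 : D.κ 0 = 1 := by simpa using D.κ_add 0 0
    rw [h1, h4] at h3
    have h5 := hy w
    rw [← h2, D.inv _ h3.symm, hw, one_smul] at h5
    exact hc (by simpa using h5)
  obtain ⟨u, hmu, hlu⟩ : ∃ u, m u = 0 ∧ l u = 1 := by
    rcases zmod_two (m w) with h | h
    · exact ⟨w, h, hw⟩
    · exact ⟨w + v, by rw [map_add, h, hmv]; rfl, by rw [map_add, hw, hlv, add_zero]⟩
  have hzz := hz.sq hm
  have n1 := nm_eq_zero hz hy hc hm hl hmv hlv hlu
  have n2 := nm_eq_zero hy hz hc hl hm hlu hmu hmv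
  have e1 : D.eps y z = D.j c := by
    have h1 : 2 • D.eps y z = 0 := by
      rw [← n1 (D.sq y), nm_apply, σ_sq hyy, map_add, eps]; abel
    obtain ⟨a, ha⟩ := D.j_range _ h1
    by_contra h2
    obtain ⟨f, h4, h5⟩ := exists_fn' (a := c) (c := a) (by rintro rfl; exact hne (by simp [← ha]))
      (by rintro rfl; exact h2 ha.symm)
    obtain ⟨g, hg⟩ := D.exists_isT h4
    have := eps_conj hyy n1 (hy.comm' hg hl h4) (hz.comm' hg hm h4)
    rw [← ha, D.σ_j, hg, h5, one_smul, D.j_inj.eq_iff, left_eq_add] at this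
    exact hc this
  have hyz := hy.mul hz hl
  have hlm : (l + m) c = 0 := by rw [LinearMap.add_apply, hl, hm, add_zero]
  have e2 : D.eps (y * z) y = D.j c := by
    obtain ⟨g, hg⟩ := D.exists_isT hmu
    have h1 := eps_conj (y' := y * z) hyy n1
      (by rw [hz.swap hy hg hm hmu hlu, map_mul, map_mul _ g, hy.comm' hz hl hm])
      (hz.comm' hg hmu hm)
    have h2 : D.σ g (D.j c) = D.j c := by rw [D.σ_j, hg, hm, zero_smul, add_zero]
    have h3 : D.eps (y * z) z = D.j c := (D.σ g).injective (by rw [← h1, e1, h2])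
    have h4 := σ_sq (hyz.sq hlm)
    rw [map_mul, LinearEquiv.mul_apply] at h4
    rw [← h3, eps, eps]
    nth_rewrite 2 [← h4]
    rw [hy.invol hl]
  have e3 : D.eps z y = D.j c := by
    obtain ⟨g, hg⟩ := D.exists_isT hlv
    rw [eps_conj hzz n2 (hy.swap hz hg hl hlv hmv) (hy.comm' hg hlv hl), e2, D.σ_j, hg, hl,
      zero_smul, add_zero]
  obtain ⟨t, ht⟩ := D.exists_eq (hy.comm' hz hl hm)
  have r1 : D.sq (y * z) = D.σ y t + D.sq y + D.sq z := D.κ_inj (by
    rw [κ_sq (hyz.sq hlm), D.κ_add, D.κ_add, D.conj, κ_sq hyy, κ_sq hzz]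
    calc y * z * (y * z) = y * (z * y) * z := by group
      _ = _ := by rw [ht]; group)
  have r2 : D.σ z (D.sq y) = t + D.σ y t + D.sq y := by
    rw [← sq_mul hyy, ← sq_conj hyy, ht]; congr 1; group
  have r3 : D.eps (y * z) y = D.eps y z + D.eps z y := by
    rw [eps, eps, eps, r1, r2, map_add, map_add, hy.invol hl, σ_sq hyy]; abel
  rw [e1, e2, e3, left_eq_add] at r3
  exact hcj r3

end AbD

end Cfsg.Agent.Pyr
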