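import Mathlib

/-! The non-solvable groups `F² ⋊ SL₂(F)` have one class of `|F|²` involutions. -/

set_option autoImplicit false

namespace Cfsg.Agent.Pyr

open scoped MatrixGroups

theorem semi_inv {N H : Type*} [CommGroup N] [Group H] (φ : H →* MulAut N) {z : H} (hz1 : z ≠ 1)
    (hz : z * z = 1) (hu : ∀ h : H, h * h = 1 → h = 1 ∨ h = z) (hφ : ∀ n, φ z n = n⁻¹)
    (hN : Function.Bijective fun n : N => n * n) :
    Nat.card {x : N ⋊[φ] H // orderOf x = 2} = Nat.card N ∧
      ∀ x y : N ⋊[φ] H, orderOf x = 2 → orderOf y = 2 → ∃ g, g * x * g⁻¹ = y := by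
  have key : ∀ x : N ⋊[φ] H, orderOf x = 2 ↔ x.right = z := fun x => by
    refine ⟨fun h => ?_, fun h => orderOf_eq_prime ?_ fun e => hz1 (by rw [← h, e]; rfl)⟩
    · have h1 : x * x = 1 := by rw [← sq, ← h, pow_orderOf_eq_one]
      refine (hu _ (congrArg SemidirectProduct.right h1)).resolve_left fun e => ?_
      have h2 : x.left = 1 := hN.1 (by simpa [e] using congrArg SemidirectProduct.left h1)
      rw [show x = 1 from SemidirectProduct.ext h2 e, orderOf_one] at h
      omega
    · rw [sq]; ext <;> simp [h, hφ, hz]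
  refine ⟨Nat.card_congr ⟨fun x => x.1.left, fun n => ⟨⟨n, z⟩, (key _).2 rfl⟩,
    fun x => Subtype.ext (SemidirectProduct.ext rfl ((key _).1 x.2).symm), fun _ => rfl⟩,
    fun x y hx hy => ?_⟩
  obtain ⟨n, hn⟩ := hN.2 (y.left * x.left⁻¹)
  rw [key] at hx hy
  refine ⟨.inl n, ?_⟩
  ext
  · simp only [eq_mul_inv_iff_mul_eq] at hn
    simp [hx, hφ, ← hn, mul_right_comm]
  · simp [hx, hy]

theorem sl2_sq {F : Type*} [Field F] (h2 : (2 : F) ≠ 0) (B : SL(2, F)) (h : B * B = 1) :
    B = 1 ∨ B = -1 := by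
  have hd := B.det_coe
  rw [Matrix.det_fin_two] at hd
  have e := fun i j => congrArg (fun g : SL(2, F) => g i j) h
  have e00 := e 0 0
  have e01 := e 0 1
  have e10 := e 1 0
  have e11 := e 1 1
  simp [Matrix.mul_apply, Fin.sum_univ_two] at e00 e01 e10 e11
  have ht : B 0 0 + B 1 1 ≠ 0 := fun ht => h2 (by linear_combination -e00 - hd + B 0 0 * ht)
  have h1 : B 0 1 = 0 := mul_right_cancel₀ ht (by linear_combination e01)
  have h3 : B 1 0 = 0 := mul_right_cancel₀ ht (by linear_combination e10)
  have h4 : B 1 1 = B 0 0 := mul_right_cancel₀ ht (by linear_combination e11 - e00)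
  rw [h1, zero_mul, add_zero, mul_self_eq_one_iff] at e00
  refine e00.imp (fun h => ?_) fun h => ?_ <;>
  · ext i j
    fin_cases i <;> fin_cases j <;> simp [h, h1, h3, h4]

theorem exists_ex (F : Type) [Field F] [Finite F] (h2 : (2 : F) ≠ 0) (h3 : 3 < Nat.card F) :
    ∃ (G : Type) (_ : Group G) (_ : Finite G),
      Nat.card {x : G // orderOf x = 2} = Nat.card F ^ 2 ∧
      (∀ x y : G, orderOf x = 2 → orderOf y = 2 → ∃ g : G, g * x * g⁻¹ = y) ∧
      ¬ Group.IsSolvable G := by
  classical
  let φ : SL(2, F) →* MulAut (Multiplicative (Fin 2 → F)) :=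
    (MulAutMultiplicative _).symm.toMonoidHom.comp (DistribMulAction.toAddAut _ _)
  have h1 : (-1 : SL(2, F)) ≠ 1 := fun e => h2 (by
    have := congrArg (fun g : SL(2, F) => g 0 0) e
    simp at this
    linear_combination -this)
  obtain ⟨h4, h5⟩ := semi_inv φ h1 (by simp) (sl2_sq h2) (fun n => by
      change Multiplicative.ofAdd ((-1 : Matrix (Fin 2) (Fin 2) F).mulVec n.toAdd) = _
      rw [Matrix.neg_mulVec, Matrix.one_mulVec]; rfl)
    (Finite.injective_iff_bijective.1 fun a b e => Multiplicative.toAdd.injective (by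
      have := congrArg Multiplicative.toAdd e
      simp only [toAdd_mul, ← two_smul F] at this
      exact smul_right_injective _ h2 this))
  refine ⟨_, inferInstance, Finite.of_equiv _ SemidirectProduct.equivProd.symm, ?_, h5, fun h => ?_⟩
  · rw [h4, Nat.card_congr Multiplicative.toAdd, Nat.card_fun]; simp
  · have := Group.isSolvable_of_isSolvable_injective (SemidirectProduct.inr_injective (φ := φ))
    have := nontrivial_of_ne _ _ h1
    have := Fintype.ofFinite F
    obtain ⟨a, ha⟩ : ∃ a : F, a ∉ ({0, 1, -1} : Finset F) := by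
      by_contra hc
      push Not at hc
      have := Finset.card_le_card (show Finset.univ ⊆ ({0, 1, -1} : Finset F) from fun a _ => hc a)
      have h5 : ({0, 1, -1} : Finset F).card ≤ 3 := Finset.card_le_three
      rw [Finset.card_univ, ← Nat.card_eq_fintype_card] at this
      omega
    simp only [Finset.mem_insert, Finset.mem_singleton, not_or] at ha
    exact (Group.IsSolvable.commutator_lt_top_of_nontrivial SL(2, F)).ne
      (Matrix.SL2.commutator_eq_top ha.1 (by rw [Ne, sq_eq_one_iff]; tauto))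

end Cfsg.Agent.Pyr
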